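import Mathlib
import Cfsg.Agent.Lib.Helper10.Co1O.Defs

/-!
S2069 (`Out(Co1) = 1`), leaf CO4b (owner helper10; notes/S2069_leaves.lean): an automorphism of
`Nb = 2^11 : M24` that is trivial modulo `Eb = 2^11` fixes `Eb` pointwise.

The set of code words `w` with `β (mon 1 w) = mon 1 w` is an additive subgroup of the code, invariant
under `M24`, containing the all-ones word.  An element `h` of order 11 of `M24` fixes exactly one
non-zero class `v0` of the code modulo the all-ones word, so `β` fixes `mon 1 v0`; the images of `v0`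
under the powers of an element of order 23 span the code modulo the all-ones word.
-/

set_option autoImplicit false
set_option linter.unusedSectionVars false

namespace Cfsg.Agent.Lib.Helper6.Co1Leaf

open Cfsg
open Cfsg.Agent.Lib.Helper10.Co1O
open Cfsg.Agent.Lib.Helper3.Golay

/-! ### the data -/

/-- an element of order 11 of `M24` -/
def H11 : List ℕ := [13, 19, 2, 9, 22, 12, 7, 15, 14, 5, 21, 11, 0, 18, 23, 16, 8, 3, 10, 4, 17, 20, 6, 1]
def H11i : List ℕ := [12, 23, 2, 17, 19, 9, 22, 6, 16, 3, 18, 11, 5, 0, 8, 7, 15, 20, 13, 1, 21, 10, 4, 14]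
theorem hH11 : okInv H11 H11i = true := by decide
theorem hH11' : okInv H11i H11 = true := by decide
theorem hH11c : codeOK H11 = true := by decide

/-- an element of order 23 of `M24` -/
def C23 : List ℕ := [20, 15, 19, 1, 22, 12, 5, 18, 13, 21, 3, 14, 9, 16, 6, 2, 7, 8, 11, 4, 17, 10, 0, 23]
def C23i : List ℕ := [22, 3, 15, 10, 19, 6, 14, 16, 17, 12, 21, 18, 5, 8, 11, 1, 13, 20, 7, 2, 0, 9, 4, 23]
theorem hC23 : okInv C23 C23i = true := by decide
theorem hC23' : okInv C23i C23 = true := by decide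
theorem hC23c : codeOK C23 = true := by decide

/-- the mask of the word `v0` fixed by `H11` modulo the all-ones word -/
def v0m : ℕ := 0xc9c1d6

/-- the fixed classes of `H11` on the code modulo the all-ones word -/
def fixChk : Bool :=
  allBelow 4096 (fun c => decide
    ((pmAux (tblFn H11) 24 (codeMask c) = codeMask c ∨
      pmAux (tblFn H11) 24 (codeMask c) = codeMask c ^^^ 0xffffff) →
    (codeMask c = 0 ∨ codeMask c = 0xffffff ∨ codeMask c = v0m ∨
      codeMask c = v0m ^^^ 0xffffff)))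

set_option maxRecDepth 100000 in
theorem fixChk_true : fixChk = true := by decide +kernel

/-- the images of `v0` under the first eleven powers of `C23`, and the all-ones word -/
def spanL : List ℕ :=
  (List.range 11).map (fun k => (pmAux (tblFn C23) 24)^[k] v0m) ++ [0xffffff]

/-- xor of the members of a list selected by the bits of `sel` -/
def xorL : List ℕ → ℕ → ℕ
  | [], _ => 0
  | x :: L, sel => (bif sel.testBit 0 then x else 0) ^^^ xorL L (sel / 2)

def spanCoef : List ℕ := [1915, 1455, 1213, 3432, 546, 713, 3617, 3342, 30, 2934, 2180, 809]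

theorem span_ok : ∀ i < 12, basisMask i = xorL spanL (spanCoef.getD i 0) := by decide +kernel

/-! ### masks and code words -/

/-- the element of `M24` given by a table -/
def tblM24 (T T' : List ℕ) (h : okInv T T' = true) (h' : okInv T' T = true)
    (hc : codeOK T = true) : ↥M24 :=
  ⟨permOfTbl T T' h h', (hasTbl_permOfTbl T T' h h').mem_M24 hc⟩

theorem actW_tbl (T T' : List ℕ) (h : okInv T T' = true) (h' : okInv T' T = true)
    (hc : codeOK T = true) (m : ℕ) (hm : wordOf m ∈ golayCode) :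
    (actW (tblM24 T T' h h' hc) ⟨wordOf m, hm⟩).1 = wordOf (pmAux (tblFn T) 24 m) :=
  permWord_wordOf _ _ (hasTbl_permOfTbl T T' h h').2 m

theorem tbl_lt (T T' : List ℕ) (h : okInv T T' = true) (h' : okInv T' T = true) (m : ℕ) :
    pmAux (tblFn T) 24 m < 2 ^ 24 := by
  apply pmAux_lt
  intro i hi
  show T.getD i 0 < 24
  rw [← (hasTbl_permOfTbl T T' h h').2 i hi]
  exact idx_lt _

theorem oneW_val : oneW.1 = wordOf 0xffffff := one_eq_wordOf

theorem v0m_mem : wordOf v0m ∈ golayCode := by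
  rw [wordOf_mem_iff (by decide)]
  decide

/-- the word `v0` -/
def v0 : ↥golayCode := ⟨wordOf v0m, v0m_mem⟩

/-- the element of order 11 -/
def h11 : ↥M24 := tblM24 H11 H11i hH11 hH11' hH11c

/-- the element of order 23 -/
def c23 : ↥M24 := tblM24 C23 C23i hC23 hC23' hC23c

theorem xor_lt24 {a b : ℕ} (ha : a < 2 ^ 24) (hb : b < 2 ^ 24) : a ^^^ b < 2 ^ 24 :=
  Nat.xor_lt_two_pow ha hb

/-- the classes fixed by `h11` -/
theorem fix_h11 (u : ↥golayCode) (hu : u = actW h11 u ∨ u = actW h11 u + oneW) :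
    u = 0 ∨ u = oneW ∨ u = v0 ∨ u = v0 + oneW := by
  obtain ⟨c, hc, hcu⟩ := (mem_golayCode_iff u.1).mp u.2
  have hchk := (allBelow_iff _ _).mp fixChk_true c hc
  have hm : wordOf (codeMask c) ∈ golayCode := wordOf_codeMask_mem c
  have hu' : u = ⟨wordOf (codeMask c), hm⟩ := Subtype.ext hcu
  have hlt : codeMask c < 2 ^ 24 := codeMask_lt c hc
  have hlt' : pmAux (tblFn H11) 24 (codeMask c) < 2 ^ 24 := tbl_lt H11 H11i hH11 hH11' _
  have hact : (actW h11 u).1 = wordOf (pmAux (tblFn H11) 24 (codeMask c)) := by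
    rw [hu']
    exact actW_tbl H11 H11i hH11 hH11' hH11c _ hm
  have hcase : pmAux (tblFn H11) 24 (codeMask c) = codeMask c ∨
      pmAux (tblFn H11) 24 (codeMask c) = codeMask c ^^^ 0xffffff := by
    rcases hu with hu | hu
    · left
      have h1 := congrArg Subtype.val hu
      rw [hact, hcu] at h1
      exact (wordOf_injective hlt hlt' h1).symm
    · right
      have h1 := congrArg Subtype.val hu
      have h2 : (actW h11 u + oneW).1 = (actW h11 u).1 + oneW.1 := rfl
      rw [h2, hact, oneW_val, ← wordOf_xor, hcu] at h1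
      have h3 := wordOf_injective hlt (xor_lt24 hlt' (by decide)) h1
      have h4 : codeMask c ^^^ 0xffffff =
          pmAux (tblFn H11) 24 (codeMask c) ^^^ 0xffffff ^^^ 0xffffff :=
        congrArg (fun x => x ^^^ 0xffffff) h3
      rw [Nat.xor_assoc, Nat.xor_self, Nat.xor_zero] at h4
      exact h4.symm
  have hres : codeMask c = 0 ∨ codeMask c = 0xffffff ∨ codeMask c = v0m ∨
      codeMask c = v0m ^^^ 0xffffff := of_decide_eq_true hchk hcase
  rcases hres with h1 | h1 | h1 | h1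
  · left
    apply Subtype.ext
    rw [hcu, h1, wordOf_zero]; rfl
  · right; left
    apply Subtype.ext
    rw [hcu, h1, oneW_val]
  · right; right; left
    apply Subtype.ext
    rw [hcu, h1]; rfl
  · right; right; right
    apply Subtype.ext
    have h2 : (v0 + oneW).1 = v0.1 + oneW.1 := rfl
    rw [hcu, h1, h2, oneW_val, wordOf_xor]; rfl

theorem v0_ne_zero : v0 ≠ 0 := by
  intro h
  have h1 := congrArg Subtype.val h
  have h2 : (0 : ↥golayCode).1 = wordOf 0 := by rw [wordOf_zero]; rfl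
  rw [h2] at h1
  have := wordOf_injective (m := v0m) (n := 0) (by decide) (by decide) h1
  exact absurd this (by decide)

theorem v0_ne_oneW : v0 ≠ oneW := by
  intro h
  have h1 := congrArg Subtype.val h
  rw [oneW_val] at h1
  have := wordOf_injective (m := v0m) (n := 0xffffff) (by decide) (by decide) h1
  exact absurd this (by decide)

theorem h11_v0 : actW h11 v0 = v0 ∨ actW h11 v0 = v0 + oneW := by
  left
  apply Subtype.ext
  exact (actW_tbl H11 H11i hH11 hH11' hH11c v0m v0m_mem).trans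
    (congrArg wordOf (by decide : pmAux (tblFn H11) 24 v0m = v0m))

/-! ### the abstract part -/

section abstract

variable (β : MulAut ↥Nb)

/-- the sign change of a code word, as an element of `Nb` -/
noncomputable def eN (w : ↥golayCode) : ↥Nb := ⟨mon 1 w, mon_mem_Nb 1 w⟩

/-- the permutation part, as an element of `Nb` -/
noncomputable def nN (σ : ↥M24) : ↥Nb := ⟨mon σ 0, mon_mem_Nb σ 0⟩

theorem eN_add (w u : ↥golayCode) : eN (w + u) = eN w * eN u := by
  apply Subtype.ext
  show mon 1 (w + u) = mon 1 w * mon 1 u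
  rw [mon_mul, mul_one, actW_one]

theorem eN_zero : eN 0 = 1 := Subtype.ext mon_one

theorem eN_oneW : eN oneW = 1 := Subtype.ext mon_oneW

theorem eN_add_oneW (w : ↥golayCode) : eN (w + oneW) = eN w := Subtype.ext (mon_add_oneW 1 w)

theorem eN_conj (σ : ↥M24) (w : ↥golayCode) : nN σ * eN w * (nN σ)⁻¹ = eN (actW σ w) := by
  apply Subtype.ext
  show mon σ 0 * mon 1 w * (mon σ 0)⁻¹ = mon 1 (actW σ w)
  exact mon_conj σ 0 w

theorem eN_mem_Eb (w : ↥golayCode) : ((eN w : ↥Nb) : Cfsg.Spor.Co1) ∈ Eb := mon_mem_Eb w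

theorem Eb_comm (e e' : Cfsg.Spor.Co1) (he : e ∈ Eb) (he' : e' ∈ Eb) : e * e' = e' * e := by
  obtain ⟨w, rfl⟩ := (mem_Eb_iff e).mp he
  obtain ⟨u, rfl⟩ := (mem_Eb_iff e').mp he'
  rw [mon_mul, mon_mul, mul_one, actW_one, actW_one, add_comm]

/-- the code words whose sign change is fixed by `β` -/
noncomputable def FixS : AddSubgroup ↥golayCode where
  carrier := {w | β (eN w) = eN w}
  zero_mem' := by
    show β (eN 0) = eN 0
    rw [eN_zero, map_one]
  add_mem' := by
    intro w u hw hu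
    show β (eN (w + u)) = eN (w + u)
    rw [eN_add, map_mul, hw, hu]
  neg_mem' := by
    intro w hw
    have : -w = w := by
      rw [neg_eq_iff_add_eq_zero]; exact add_self_code w
    show β (eN (-w)) = eN (-w)
    rw [this]; exact hw

theorem mem_FixS (w : ↥golayCode) : w ∈ FixS β ↔ β (eN w) = eN w := Iff.rfl

/-- masks of words in `FixS` -/
def InFix (m : ℕ) : Prop := ∃ hm : wordOf m ∈ golayCode, (⟨wordOf m, hm⟩ : ↥golayCode) ∈ FixS β

variable (h : ∀ x : ↥Nb, ((β x * x⁻¹ : ↥Nb) : Cfsg.Spor.Co1) ∈ Eb)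
include h

theorem beta_mem_Eb (x : ↥Nb) (hx : (x : Cfsg.Spor.Co1) ∈ Eb) :
    ((β x : ↥Nb) : Cfsg.Spor.Co1) ∈ Eb := by
  have h1 : β x = (β x * x⁻¹) * x := by rw [inv_mul_cancel_right]
  rw [h1]
  exact Eb.mul_mem (h x) hx

/-- `β` commutes with the conjugation action of `Nb` on `Eb` -/
theorem beta_conj (n x : ↥Nb) (hx : (x : Cfsg.Spor.Co1) ∈ Eb) :
    β (n * x * n⁻¹) = n * β x * n⁻¹ := by
  have hy : ((n * β x * n⁻¹ : ↥Nb) : Cfsg.Spor.Co1) ∈ Eb :=
    conj_mem_Eb n.1 n.2 _ (beta_mem_Eb β h x hx)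
  have hcomm : (β n * n⁻¹) * (n * β x * n⁻¹) = (n * β x * n⁻¹) * (β n * n⁻¹) :=
    Subtype.ext (Eb_comm _ _ (h n) hy)
  have h1 : β n = (β n * n⁻¹) * n := by rw [inv_mul_cancel_right]
  calc β (n * x * n⁻¹) = β n * β x * (β n)⁻¹ := by rw [map_mul, map_mul, map_inv]
    _ = (β n * n⁻¹) * (n * β x * n⁻¹) * (β n * n⁻¹)⁻¹ := by group
    _ = (n * β x * n⁻¹) * (β n * n⁻¹) * (β n * n⁻¹)⁻¹ := by rw [hcomm]
    _ = n * β x * n⁻¹ := by rw [mul_inv_cancel_right]

theorem oneW_mem_FixS : oneW ∈ FixS β := by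
  rw [mem_FixS, eN_oneW, map_one]

theorem actW_mem_FixS (σ : ↥M24) (w : ↥golayCode) (hw : w ∈ FixS β) :
    actW σ w ∈ FixS β := by
  rw [mem_FixS] at hw ⊢
  rw [← eN_conj, beta_conj β h _ _ (eN_mem_Eb w), hw]

theorem v0_mem_FixS : v0 ∈ FixS β := by
  rw [mem_FixS]
  obtain ⟨u, hu⟩ := (mem_Eb_iff _).mp (beta_mem_Eb β h (eN v0) (eN_mem_Eb v0))
  have hu' : β (eN v0) = eN u := Subtype.ext hu.symm
  -- `u` is fixed by `h11` modulo the all-ones word
  have h1 : eN (actW h11 v0) = eN v0 := by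
    rcases h11_v0 with h2 | h2
    · rw [h2]
    · rw [h2, eN_add_oneW]
  have h3 : eN (actW h11 u) = eN u := by
    rw [← eN_conj, ← hu', ← beta_conj β h _ _ (eN_mem_Eb v0), eN_conj, h1]
  have h4 : mon 1 (actW h11 u) = mon 1 u := congrArg Subtype.val h3
  have h5 := ((mon_eq_iff _ _ _ _).mp h4.symm).2
  rcases fix_h11 u h5 with h6 | h6 | h6 | h6
  · exfalso
    rw [h6, eN_zero] at hu'
    have h7 : eN v0 = 1 := by
      apply β.injective
      rw [hu', map_one]
    have h8 : mon 1 v0 = 1 := congrArg Subtype.val h7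
    rcases ((mon_eq_one_iff _ _).mp h8).2 with h9 | h9
    · exact v0_ne_zero h9
    · exact v0_ne_oneW h9
  · exfalso
    rw [h6, eN_oneW] at hu'
    have h7 : eN v0 = 1 := by
      apply β.injective
      rw [hu', map_one]
    have h8 : mon 1 v0 = 1 := congrArg Subtype.val h7
    rcases ((mon_eq_one_iff _ _).mp h8).2 with h9 | h9
    · exact v0_ne_zero h9
    · exact v0_ne_oneW h9
  · rw [hu', h6]
  · rw [hu', h6, eN_add_oneW]

theorem inFix_zero : InFix β 0 := by
  refine ⟨by rw [wordOf_zero]; exact Submodule.zero_mem _, ?_⟩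
  have : (⟨wordOf 0, by rw [wordOf_zero]; exact Submodule.zero_mem _⟩ : ↥golayCode) = 0 :=
    Subtype.ext wordOf_zero
  rw [this]
  exact (FixS β).zero_mem

theorem inFix_ones : InFix β 0xffffff := by
  refine ⟨by rw [← oneW_val]; exact oneW.2, ?_⟩
  have : (⟨wordOf 0xffffff, by rw [← oneW_val]; exact oneW.2⟩ : ↥golayCode) = oneW :=
    Subtype.ext oneW_val.symm
  rw [this]
  exact oneW_mem_FixS β h

theorem inFix_v0 : InFix β v0m := ⟨v0m_mem, v0_mem_FixS β h⟩

theorem inFix_xor {m n : ℕ} (hm : InFix β m) (hn : InFix β n) : InFix β (m ^^^ n) := by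
  obtain ⟨hm1, hm2⟩ := hm
  obtain ⟨hn1, hn2⟩ := hn
  have hmem : wordOf (m ^^^ n) ∈ golayCode := by
    rw [wordOf_xor]; exact Submodule.add_mem _ hm1 hn1
  refine ⟨hmem, ?_⟩
  have : (⟨wordOf (m ^^^ n), hmem⟩ : ↥golayCode) = ⟨wordOf m, hm1⟩ + ⟨wordOf n, hn1⟩ :=
    Subtype.ext (wordOf_xor m n)
  rw [this]
  exact (FixS β).add_mem hm2 hn2

theorem inFix_c23 {m : ℕ} (hm : InFix β m) : InFix β (pmAux (tblFn C23) 24 m) := by
  obtain ⟨hm1, hm2⟩ := hm
  have hval := actW_tbl C23 C23i hC23 hC23' hC23c m hm1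
  have hmem : wordOf (pmAux (tblFn C23) 24 m) ∈ golayCode := by
    rw [← hval]; exact (actW _ _).2
  refine ⟨hmem, ?_⟩
  have : (⟨wordOf (pmAux (tblFn C23) 24 m), hmem⟩ : ↥golayCode) = actW c23 ⟨wordOf m, hm1⟩ :=
    Subtype.ext hval.symm
  rw [this]
  exact actW_mem_FixS β h c23 _ hm2

theorem inFix_iter (k : ℕ) : InFix β ((pmAux (tblFn C23) 24)^[k] v0m) := by
  induction k with
  | zero => exact inFix_v0 β h
  | succ k ih =>
    rw [Function.iterate_succ_apply']
    exact inFix_c23 β h ih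

theorem inFix_xorL (L : List ℕ) (hL : ∀ x ∈ L, InFix β x) (sel : ℕ) :
    InFix β (xorL L sel) := by
  induction L generalizing sel with
  | nil => exact inFix_zero β h
  | cons x L ih =>
    rw [xorL]
    apply inFix_xor β h
    · cases sel.testBit 0
      · exact inFix_zero β h
      · exact hL x (List.mem_cons_self ..)
    · exact ih (fun y hy => hL y (List.mem_cons_of_mem _ hy)) _

theorem inFix_spanL : ∀ x ∈ spanL, InFix β x := by
  intro x hx
  unfold spanL at hx
  rw [List.mem_append, List.mem_map, List.mem_singleton] at hx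
  rcases hx with ⟨k, -, rfl⟩ | rfl
  · exact inFix_iter β h k
  · exact inFix_ones β h

theorem bvec_mem_FixS (i : Fin 12) : (⟨bvec i, bvec_mem i⟩ : ↥golayCode) ∈ FixS β := by
  have h1 := inFix_xorL β h spanL (inFix_spanL β h) (spanCoef.getD i 0)
  rw [← span_ok i i.2] at h1
  obtain ⟨hm, h2⟩ := h1
  exact h2

theorem FixS_eq_top (w : ↥golayCode) : w ∈ FixS β := by
  obtain ⟨c, -, hcw⟩ := (mem_golayCode_iff w.1).mp w.2
  have h1 : w = ∑ i : Fin 12, if c.testBit i then (⟨bvec i, bvec_mem i⟩ : ↥golayCode) else 0 := by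
    apply Subtype.ext
    rw [hcw, wordOf_codeMask, AddSubmonoidClass.coe_finsetSum]
    apply Finset.sum_congr rfl
    intro i _
    split_ifs <;> rfl
  rw [h1]
  apply (FixS β).sum_mem
  intro i _
  split_ifs
  · exact bvec_mem_FixS β h i
  · exact (FixS β).zero_mem

end abstract

/-- CO4b -/
theorem fix_Eb_of_mod (β : MulAut ↥Nb)
    (h : ∀ x : ↥Nb, ((β x * x⁻¹ : ↥Nb) : Cfsg.Spor.Co1) ∈ Eb) :
    ∀ x : ↥Nb, (x : Cfsg.Spor.Co1) ∈ Eb → β x = x := by
  intro x hx
  obtain ⟨w, hw⟩ := (mem_Eb_iff _).mp hx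
  have h1 : x = eN w := Subtype.ext hw.symm
  rw [h1]
  exact FixS_eq_top β h w

end Cfsg.Agent.Lib.Helper6.Co1Leaf
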